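import Groth.Agent.ZarConn.AppIso
import Groth.Agent.Triage.NormInX
import Groth.Agent.SteinX.GenConn
import Groth.Agent.DimFormula.Criteria
import Groth.Agent.FibDim.BaseField
import Groth.Agent.FibDim.Minimal

/-!
# Fibrations and function fields
-/

set_option autoImplicit false
set_option linter.style.haveILetI false
set_option backward.isDefEq.respectTransparency false
set_option backward.isDefEq.respectTransparency.types false
set_option maxHeartbeats 1000000

universe u

open CategoryTheory CategoryTheory.Limits AlgebraicGeometry TopologicalSpace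

namespace Groth.Agent.FibrationFF

variable {X Y : Scheme.{u}} [IsIntegral X] [IsIntegral Y] (f : X ⟶ Y)
  (h : f.base (genericPoint X) ⤳ genericPoint Y)

/-- On a normal source, functions downstairs make the function field downstairs integrally closed upstairs. -/
theorem mem_range_of_isIntegralElem (hX : ∀ x : X, IsIntegrallyClosed (X.presheaf.stalk x))
    (hf : ∀ U : Y.Opens, IsIso (f.app U)) (x : X.functionField)
    (hx : (CohIII.stalkToFunctionField f (genericPoint Y) h).IsIntegralElem x) :
    x ∈ (CohIII.stalkToFunctionField f (genericPoint Y) h).range := by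
  obtain ⟨_, ⟨U, hU, rfl⟩, hηU, -⟩ :=
    Y.isBasis_affineOpens.exists_subset_of_mem_open (Set.mem_univ (genericPoint Y)) isOpen_univ
  have hU' : IsAffineOpen U := hU
  haveI : Nonempty U := ⟨⟨_, hηU⟩⟩
  have hηV : genericPoint X ∈ f ⁻¹ᵁ U := h.mem_open U.isOpen hηU
  haveI : IsFractionRing Γ(Y, U) Y.functionField := functionField_isFractionRing_of_isAffineOpen Y U hU'
  let ψ : Y.functionField →+* X.functionField := CohIII.stalkToFunctionField f (genericPoint Y) h
  have hsq : ∀ a : Γ(Y, U), ψ (algebraMap Γ(Y, U) Y.functionField a) =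
      X.presheaf.germ (f ⁻¹ᵁ U) (genericPoint X) hηV (f.app U a) := fun a => by
    show (f.stalkMap (genericPoint X)).hom (Y.presheaf.stalkSpecializes h (Y.presheaf.germ U (genericPoint Y) hηU a)) = _
    rw [TopCat.Presheaf.germ_stalkSpecializes_apply]
    exact f.germ_stalkMap_apply U (genericPoint X) hηV a
  letI : Algebra Y.functionField X.functionField := ψ.toAlgebra
  letI : Algebra Γ(Y, U) X.functionField := (ψ.comp (algebraMap Γ(Y, U) Y.functionField)).toAlgebra
  haveI : IsScalarTower Γ(Y, U) Y.functionField X.functionField := IsScalarTower.of_algebraMap_eq fun _ => rfl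
  obtain ⟨m, hm⟩ := IsIntegral.exists_multiple_integral_of_isLocalization (nonZeroDivisors Γ(Y, U))
    (Rₘ := Y.functionField) x (show IsIntegral Y.functionField x from hx)
  obtain ⟨P, hP, hP0⟩ := hm
  obtain ⟨s, hs⟩ := Triage.NormInX.exists_section hX hηV (m • x) ⟨P.map (f.app U).hom, hP.map _, by
    rw [Polynomial.eval₂_map,
      show (X.presheaf.germ (f ⁻¹ᵁ U) (genericPoint X) hηV).hom.comp (f.app U).hom =
        ψ.comp (algebraMap Γ(Y, U) Y.functionField) from (RingHom.ext hsq).symm]
    exact hP0⟩
  haveI := hf U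
  obtain ⟨a, rfl⟩ := (ConcreteCategory.bijective_of_isIso (f.app U)).2 s
  have e : ψ (algebraMap Γ(Y, U) Y.functionField a) = ψ (algebraMap Γ(Y, U) Y.functionField m.1) * x :=
    (hsq a).trans (hs.trans (Algebra.smul_def m.1 x))
  have hm0 : ψ (algebraMap Γ(Y, U) Y.functionField m.1) ≠ 0 := fun e0 =>
    nonZeroDivisors.coe_ne_zero m (IsFractionRing.injective Γ(Y, U) Y.functionField
      ((ψ.injective (e0.trans (map_zero _).symm)).trans (map_zero _).symm))
  refine ⟨algebraMap Γ(Y, U) Y.functionField a / algebraMap Γ(Y, U) Y.functionField m.1, ?_⟩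
  show ψ _ = x
  rw [map_div₀, e, mul_div_cancel_left₀ _ hm0]

variable {f} in
theorem isIntegralElem_of_root {L : Type u} [Field L] {K : Type u} [Field K] (ψ : K →+* L) (x : L)
    (hx : ∃ q : Polynomial K, q ≠ 0 ∧ Polynomial.eval₂ ψ x q = 0) : ψ.IsIntegralElem x := by
  obtain ⟨q, hq, hq0⟩ := hx
  exact ⟨q * Polynomial.C q.leadingCoeff⁻¹, Polynomial.monic_mul_leadingCoeff_inv hq, by
    rw [Polynomial.eval₂_mul, hq0, zero_mul]⟩

/-- A fibration between varieties of the same dimension is birational. -/
theorem bijective_of_dim_eq (k : Type u) [Field k] (g : X ⟶ Spec (CommRingCat.of k)) (g' : Y ⟶ Spec (CommRingCat.of k))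
    [LocallyOfFiniteType g] [LocallyOfFiniteType g'] [IsProper f] (hf : f ≫ g' = g)
    (hdim : topologicalKrullDim ↥X = topologicalKrullDim ↥Y) (hO : ∀ U : Y.Opens, IsIso (f.app U)) :
    Function.Bijective (CohIII.stalkToFunctionField f (genericPoint Y) h) := by
  haveI := SteinX.isDominant_of_hdom f h
  haveI : IsLocallyNoetherian Y := LocallyOfFiniteType.isLocallyNoetherian g'
  have hgen : f (genericPoint X) = genericPoint Y := (DimFormula.generic_fibre_dim f).1
  have hd : ∀ {Z : Scheme.{u}} [IsIntegral Z] (q : Z ⟶ Spec (CommRingCat.of k)) [LocallyOfFiniteType q],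
      topologicalKrullDim ↥Z = ((FibDim.rd q (genericPoint Z) : ℕ∞) : WithBot ℕ∞) := by
    intro Z _ q _
    haveI := FibDim.subsingleton_spec_field k
    rw [← FibDim.topologicalKrullDim_closure q (genericPoint Z)]
    have e : closure ({genericPoint Z} : Set Z) = Set.univ := (genericPoint_spec Z).def
    rw [e]
    exact (Homeomorph.Set.univ Z).symm.isHomeomorph.topologicalKrullDim_eq
  rw [hd g, hd g'] at hdim
  have hrd : FibDim.rd f (genericPoint X) = 0 := by
    have h1 := FibDim.rd_comp f g' (genericPoint X)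
    rw [hgen] at h1
    have h2 : FibDim.rd g (genericPoint X) = FibDim.rd g' (genericPoint Y) := by exact_mod_cast hdim
    subst hf
    omega
  have hsub : ∀ a : X, f a = genericPoint Y → a = genericPoint X := fun a ha => by
    by_contra hne
    have := FibDim.rd_lt f (genericPoint_specializes a) (Ne.symm hne) (hgen.trans ha.symm)
    omega
  obtain ⟨V, hV, hiso⟩ := ZarConn.exists_open_isIso_no_isolated f fun U =>
    haveI := hO U
    ConcreteCategory.bijective_of_isIso (f.app U)
  have hηV : genericPoint Y ∈ V := by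
    by_contra hn
    obtain ⟨w, hw⟩ : genericPoint X ∈ Set.range (f.fiberι (genericPoint Y)) := by
      rw [Scheme.Hom.range_fiberι]; exact hgen
    haveI : Subsingleton ↥(f.fiber (genericPoint Y)) := ⟨fun a b => (f.fiberι _).isEmbedding.injective
      ((hsub _ (FibDim.fiber_apply_fiberι f a)).trans (hsub _ (FibDim.fiber_apply_fiberι f b)).symm)⟩
    refine hiso _ hn w ?_
    rw [show ({w} : Set ↥(f.fiber (genericPoint Y))) = Set.univ from
      Set.eq_univ_of_forall fun z => Subsingleton.elim z w]
    exact isOpen_univ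
  haveI := hV
  have hξV : genericPoint X ∈ f ⁻¹ᵁ V := by show f _ ∈ V; rw [hgen]; exact hηV
  haveI : IsIso (f.stalkMap (genericPoint X)) :=
    ((MorphismProperty.isomorphisms CommRingCat).arrow_mk_iso_iff
      (morphismRestrictStalkMap f V ⟨_, hξV⟩)).1 (inferInstanceAs (IsIso ((f ∣_ V).stalkMap ⟨_, hξV⟩)))
  exact ⟨RingHom.injective _, ZarConn.ψ_surjective_of_bir f hgen inferInstance h⟩

end Groth.Agent.FibrationFF
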